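import Mathlib
import Groth.Prelude.Def_MoreMor
import Groth.Agent.FibDimLib.Semicont
import Groth.Agent.FibDimLib.GenIneq
import Groth.Agent.EquidimLib.FlatComponents

/-!
# Connected components of fibres through a section: dimensions
-/

set_option autoImplicit false
universe u

open CategoryTheory Limits AlgebraicGeometry TopologicalSpace Topology

namespace SecCompLib

open UOpenLib

/-- A connected component of a subspace is closed in it. -/
theorem closure_inter_subset_connectedComponentIn {α : Type*} [TopologicalSpace α] {F : Set α} {x : α}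
    (hx : x ∈ F) : closure (connectedComponentIn F x) ∩ F ⊆ connectedComponentIn F x := by
  rintro z ⟨hz, hzF⟩
  refine (isPreconnected_connectedComponentIn.subset_closure
      (t := insert z (connectedComponentIn F x)) (Set.subset_insert _ _)
      (Set.insert_subset hz subset_closure)).subset_connectedComponentIn
    (Set.mem_insert_of_mem _ (mem_connectedComponentIn hx))
    (Set.insert_subset hzF (connectedComponentIn_subset _ _)) (Set.mem_insert _ _)

variable {X Y : Scheme.{u}} (f : X ⟶ Y) (g : Y ⟶ X)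

/-- The connected component of the fibre through the value of a section. -/
abbrev comp (y : Y) : Set X := connectedComponentIn (f.base ⁻¹' {y}) (g.base y)

variable {f g}

theorem apply_section (hg : g ≫ f = 𝟙 Y) (y : Y) : f.base (g.base y) = y := by
  rw [← Scheme.Hom.comp_apply, hg]; rfl

theorem section_mem (hg : g ≫ f = 𝟙 Y) (y : Y) : g.base y ∈ comp f g y :=
  mem_connectedComponentIn (apply_section hg y)

theorem map_of_mem {y : Y} {x : X} (hx : x ∈ comp f g y) : f.base x = y :=
  connectedComponentIn_subset (f.base ⁻¹' {y}) (g.base y) hx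

theorem mem_sectionComponents_iff {x : X} :
    x ∈ MoreMor.sectionComponents f g ↔ x ∈ comp f g (f.base x) := Iff.rfl

theorem mem_comp_iff (y : Y) (x : X) :
    x ∈ comp f g y ↔ x ∈ MoreMor.sectionComponents f g ∧ f.base x = y := by
  refine ⟨fun h => ⟨?_, map_of_mem h⟩, fun ⟨h, e⟩ => e ▸ h⟩
  rw [mem_sectionComponents_iff, map_of_mem h]
  exact h

theorem mem_of_generizes {y : Y} {x z : X} (hx : x ∈ comp f g y) (hz : f.base z = y)
    (h : z ⤳ x) : z ∈ comp f g y := by
  have hS : _root_.IsPreconnected ({z, x} : Set X) :=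
    (isPreconnected_singleton (x := z)).subset_closure (by simp)
      (Set.insert_subset (subset_closure rfl) (Set.singleton_subset_iff.mpr h.mem_closure))
  rw [comp, connectedComponentIn_eq hx]
  have hsub : ({z, x} : Set X) ⊆ f.base ⁻¹' {y} :=
    Set.insert_subset hz (Set.singleton_subset_iff.mpr (map_of_mem hx))
  exact hS.subset_connectedComponentIn (x := x) (by simp) hsub (by simp)

/-- An irreducible subset of a fibre, closed in it, is the trace of the closure of a point. -/
theorem exists_generic {y : Y} {C : Set X} (hsub : C ⊆ f.base ⁻¹' {y}) (hirr : IsIrreducible C)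
    (hcl : closure C ∩ f.base ⁻¹' {y} ⊆ C) : ∃ ξ ∈ C, C = closure {ξ} ∩ f.base ⁻¹' {y} := by
  have : QuasiSober ↥(f.base ⁻¹' {y}) := (f.fiberHomeo y).symm.isClosedEmbedding.quasiSober
  let C' : Set ↥(f.base ⁻¹' {y}) := Subtype.val ⁻¹' C
  have himg : Subtype.val '' C' = C := by
    rw [Subtype.image_preimage_coe, Set.inter_eq_right.mpr hsub]
  have hC' : IsIrreducible C' := by
    refine ⟨?_, ?_⟩
    · obtain ⟨a, ha⟩ := hirr.nonempty
      exact ⟨⟨a, hsub ha⟩, ha⟩
    · intro u v hu hv hu' hv'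
      obtain ⟨U, hU, rfl⟩ := isOpen_induced_iff.mp hu
      obtain ⟨V, hV, rfl⟩ := isOpen_induced_iff.mp hv
      obtain ⟨a, ha, hau⟩ := hu'
      obtain ⟨b, hb, hbv⟩ := hv'
      obtain ⟨c, hc, hcu, hcv⟩ := hirr.2 U V hU hV ⟨a.1, ha, hau⟩ ⟨b.1, hb, hbv⟩
      exact ⟨⟨c, hsub hc⟩, hc, hcu, hcv⟩
  have hC'c : IsClosed C' := by
    refine isClosed_of_closure_subset fun z hz => ?_
    rw [closure_subtype, himg] at hz
    exact hcl ⟨hz, z.2⟩
  obtain ⟨ξ, hξ⟩ := QuasiSober.sober hC' hC'c
  refine ⟨ξ.1, hξ.mem, Set.Subset.antisymm (fun c hc => ⟨?_, hsub hc⟩) ?_⟩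
  · exact ((hξ.specializes (show (⟨c, hsub hc⟩ : ↥(f.base ⁻¹' {y})) ∈ C' from hc)).map
      continuous_subtype_val).mem_closure
  · rintro c ⟨hc, hcy⟩
    exact hcl ⟨closure_mono (Set.singleton_subset_iff.mpr (show ξ.1 ∈ C from hξ.mem)) hc, hcy⟩

theorem closure_inter_comp_subset (hg : g ≫ f = 𝟙 Y) (y : Y) :
    closure (comp f g y) ∩ f.base ⁻¹' {y} ⊆ comp f g y :=
  closure_inter_subset_connectedComponentIn (apply_section hg y)

theorem exists_generic_comp (hg : g ≫ f = 𝟙 Y) {y : Y} (hirr : IsIrreducible (comp f g y)) :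
    ∃ ξ ∈ comp f g y, comp f g y = closure {ξ} ∩ f.base ⁻¹' {y} :=
  exists_generic (connectedComponentIn_subset _ _) hirr (closure_inter_comp_subset hg y)

variable [LocallyOfFiniteType f]

theorem dim_eq_fibreClosureDim {y : Y} {C : Set X} {ξ : X} (hξ : f.base ξ = y)
    (hC : C = closure {ξ} ∩ f.base ⁻¹' {y}) : topologicalKrullDim ↥C = fibreClosureDim f ξ := by
  subst hξ
  rw [fibreClosureDim_eq_inter, hC]

theorem fibreClosureDim_le_dim (hg : g ≫ f = 𝟙 Y) {y : Y} {z : X} (hz : z ∈ comp f g y) :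
    fibreClosureDim f z ≤ topologicalKrullDim ↥(comp f g y) := by
  rw [fibreClosureDim_eq_inter, map_of_mem hz]
  have hsub : closure {z} ∩ f.base ⁻¹' {y} ⊆ comp f g y := fun w hw =>
    closure_inter_comp_subset hg y ⟨closure_mono (Set.singleton_subset_iff.mpr hz) hw.1, hw.2⟩
  exact (IsEmbedding.inclusion hsub).isInducing.topologicalKrullDim_le

/-- If the component is irreducible its dimension is the dimension of the fibre at the section. -/
theorem fibreDimAt_section (hg : g ≫ f = 𝟙 Y) {y : Y} (hirr : IsIrreducible (comp f g y)) :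
    FlatMor.fibreDimAt f (g.base y) = topologicalKrullDim ↥(comp f g y) := by
  obtain ⟨ξ, hξC, hC⟩ := exists_generic_comp hg hirr
  obtain ⟨x₀, hx₀, hsp, -, hd⟩ := exists_max_fibreDimAt f (g.base y)
  have hx₀C : x₀ ∈ comp f g y :=
    mem_of_generizes (section_mem hg y) (hx₀.trans (apply_section hg y)) hsp
  refine le_antisymm (hd ▸ fibreClosureDim_le_dim hg hx₀C) ?_
  rw [dim_eq_fibreClosureDim (map_of_mem hξC) hC]
  refine fibreClosureDim_le_fibreDimAt f ?_
  rw [specializes_iff_mem_closure]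
  exact (hC ▸ section_mem hg y : g.base y ∈ closure {ξ} ∩ f.base ⁻¹' {y}).1

/-- Specializing a point to a fibre without losing dimension. -/
theorem exists_specialization_dim (f : X ⟶ Y) [LocallyOfFiniteType f] {ξ x : X} (h : ξ ⤳ x) :
    ∃ z, ξ ⤳ z ∧ z ⤳ x ∧ f.base z = f.base x ∧ fibreClosureDim f ξ ≤ fibreClosureDim f z := by
  let J := Scheme.IdealSheafData.vanishingIdeal (⟨closure {ξ}, isClosed_closure⟩ : Closeds X)
  let j := J.subschemeι
  have hrange : Set.range j.base = closure {ξ} := by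
    rw [J.range_subschemeι, Scheme.IdealSheafData.coe_support_vanishingIdeal]
    rfl
  obtain ⟨a, ha⟩ : x ∈ Set.range j.base := hrange ▸ h.mem_closure
  obtain ⟨b, hb⟩ : ξ ∈ Set.range j.base := hrange ▸ subset_closure rfl
  have hba : b ⤳ a := by
    rw [← j.isEmbedding.isInducing.specializes_iff, hb, ha]; exact h
  obtain ⟨v, hv, hva, -, hvd⟩ := exists_max_fibreDimAt (j ≫ f) a
  refine ⟨j.base v, specializes_iff_mem_closure.mpr (hrange ▸ ⟨v, rfl⟩), ha ▸ hva.map j.continuous, ?_, ?_⟩
  · rw [← ha]; exact hv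
  · rw [← EquidimLib.fibreClosureDim_closedImmersion, hvd, ← hb, ← EquidimLib.fibreClosureDim_closedImmersion]
    exact (fibreClosureDim_le_fibreDimAt (j ≫ f) specializes_rfl).trans
      (FibDimLib.fibreDimAt_le_of_specializes (j ≫ f) hba)

/-- EGA IV 15.6.6: the dimension of the component grows along specializations. -/
theorem dim_ge_of_generization (hg : g ≫ f = 𝟙 Y) {y y' : Y} (hy : y' ⤳ y) {Z : Set X}
    (hZs : Z ⊆ f.base ⁻¹' {y'}) (hZi : IsIrreducible Z)
    (hZm : ∀ Z' : Set X, IsIrreducible Z' → Z' ⊆ f.base ⁻¹' {y'} → Z ⊆ Z' → Z' = Z)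
    (hZg : g.base y' ∈ Z)
    (hZd : topologicalKrullDim ↥Z = topologicalKrullDim ↥(comp f g y')) :
    topologicalKrullDim ↥(comp f g y') ≤ topologicalKrullDim ↥(comp f g y) ∧
      (IsIrreducible (comp f g y) → topologicalKrullDim ↥(comp f g y) ≤ topologicalKrullDim ↥(comp f g y') →
        comp f g y ⊆ closure (comp f g y')) := by
  have hZc : closure Z ∩ f.base ⁻¹' {y'} ⊆ Z := by
    refine (hZm _ ⟨hZi.nonempty.mono (Set.subset_inter subset_closure hZs), ?_⟩ Set.inter_subset_right
      (Set.subset_inter subset_closure hZs)).le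
    intro u v hu hv ⟨a, ha, hau⟩ ⟨b, hb, hbv⟩
    obtain ⟨a', ha'u, ha'⟩ := mem_closure_iff.mp ha.1 u hu hau
    obtain ⟨b', hb'v, hb'⟩ := mem_closure_iff.mp hb.1 v hv hbv
    obtain ⟨c, hc, hcuv⟩ := hZi.2 u v hu hv ⟨a', ha', ha'u⟩ ⟨b', hb', hb'v⟩
    exact ⟨c, ⟨subset_closure hc, hZs hc⟩, hcuv⟩
  obtain ⟨ξ, hξZ, hZeq⟩ := exists_generic hZs hZi hZc
  have hZC : Z ⊆ comp f g y' := hZi.isConnected.isPreconnected.subset_connectedComponentIn hZg hZs
  have hξg : ξ ⤳ g.base y' := specializes_iff_mem_closure.mpr (hZeq ▸ hZg : _ ∈ closure {ξ} ∩ _).1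
  obtain ⟨z, hξz, hzx, hfz, hd⟩ := exists_specialization_dim f (hξg.trans (hy.map g.continuous))
  rw [apply_section hg] at hfz
  have hzC : z ∈ comp f g y := mem_of_generizes (section_mem hg y) hfz hzx
  have hle : topologicalKrullDim ↥(comp f g y') ≤ fibreClosureDim f z := by
    rw [← hZd, dim_eq_fibreClosureDim (hZs hξZ) hZeq]; exact hd
  refine ⟨hle.trans (fibreClosureDim_le_dim hg hzC), fun hirr hdim => ?_⟩
  obtain ⟨ξ₁, hξ₁C, hC⟩ := exists_generic_comp hg hirr
  have hξ₁z : ξ₁ ⤳ z := specializes_iff_mem_closure.mpr (hC ▸ hzC : _ ∈ closure {ξ₁} ∩ _).1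
  have heq : ξ₁ = z := by
    by_contra hne
    refine (FibDimLib.fibreClosureDim_lt f hξ₁z hne ((map_of_mem hξ₁C).trans hfz.symm)).not_ge ?_
    rw [← dim_eq_fibreClosureDim (map_of_mem hξ₁C) hC]
    exact hdim.trans hle
  intro w hw
  rw [hC, heq] at hw
  refine closure_mono (Set.singleton_subset_iff.mpr (hZC hξZ)) ?_
  exact closure_minimal (Set.singleton_subset_iff.mpr hξz.mem_closure) isClosed_closure hw.1

omit [LocallyOfFiniteType f] in
theorem comp_maximal {y : Y} (hg : g ≫ f = 𝟙 Y) (Z' : Set X) (hi : IsIrreducible Z')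
    (hs : Z' ⊆ f.base ⁻¹' {y}) (hle : comp f g y ⊆ Z') : Z' = comp f g y :=
  Set.Subset.antisymm (hi.isConnected.isPreconnected.subset_connectedComponentIn
    (hle (section_mem hg y)) hs) hle

/-- Equal dimensions along a specialization of irreducible components. -/
theorem subset_closure_of_dim_le (hg : g ≫ f = 𝟙 Y) {y y' : Y} (hy : y' ⤳ y)
    (hi : IsIrreducible (comp f g y)) (hi' : IsIrreducible (comp f g y'))
    (hd : topologicalKrullDim ↥(comp f g y) ≤ topologicalKrullDim ↥(comp f g y')) :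
    comp f g y ⊆ closure (comp f g y') :=
  (dim_ge_of_generization hg hy (connectedComponentIn_subset _ _) hi' (comp_maximal hg)
    (section_mem hg y') rfl).2 hi hd

/-- Upper semicontinuity of the dimension of irreducible components through a section. -/
theorem upperSemicontinuous_dim (hg : g ≫ f = 𝟙 Y) (hirr : ∀ y, IsIrreducible (comp f g y)) :
    UpperSemicontinuous fun y : Y => topologicalKrullDim ↥(comp f g y) := by
  intro y c hc
  obtain ⟨n, hn⟩ := exists_fibreDimAt_eq_nat f (g.base y)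
  have hU := (FibDimLib.isOpen_fibreDimAt_le f (n : WithBot ℕ∞)).preimage g.continuous
  filter_upwards [hU.mem_nhds (show g.base y ∈ {x | FlatMor.fibreDimAt f x ≤ (n : WithBot ℕ∞)} from hn.le)] with z hz
  refine lt_of_le_of_lt ?_ hc
  dsimp only
  rw [← fibreDimAt_section hg (hirr z), ← fibreDimAt_section hg (hirr y), hn]
  exact hz

end SecCompLib
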