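import Mathlib
import Groth.Prelude.Def_FDesc
import Groth.Agent.SecCompLib.Dim
import Groth.Agent.UOpenLib.Criterion
import Groth.Agent.DvrFlatLib.UnivOpen
import Groth.Agent.FibDimLib.SchemeInv
import Groth.Agent.S1324

/-!
# Universal openness along components through a section
-/

set_option autoImplicit false
universe u

open CategoryTheory Limits AlgebraicGeometry TopologicalSpace Topology

namespace SecCompLib

open UOpenLib

variable {X Y : Scheme.{u}} (f : X ⟶ Y) (g : Y ⟶ X)

/-- The component at `y` is geometrically irreducible. -/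
def GeomIrred (y : Y) : Prop :=
  ∀ (K : Type u) [Field K] [Algebra (IsLocalRing.ResidueField (Y.presheaf.stalk y)) K],
    IsIrreducible ((FBase.bcπ (f.fiberToSpecResidueField y) K ≫ f.fiberι y).base ⁻¹' comp f g y)

variable {f g}

theorem GeomIrred.isIrreducible {y : Y} (h : GeomIrred f g y) : IsIrreducible (comp f g y) := by
  let f₀ : f.fiber y ⟶ Spec (CommRingCat.of (Y.residueField y)) := f.fiberToSpecResidueField y
  haveI : Surjective (FBase.bcπ f₀ (Y.residueField y)) := by
    have : Surjective (Spec.map (CommRingCat.ofHom (algebraMap (Y.residueField y) (Y.residueField y)))) := by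
      rw [show (CommRingCat.ofHom (algebraMap (Y.residueField y) (Y.residueField y))) = 𝟙 _ from rfl, Spec.map_id]
      infer_instance
    exact MorphismProperty.pullback_fst _ _ this
  letI : Algebra (IsLocalRing.ResidueField (Y.presheaf.stalk y)) (Y.residueField y) := Algebra.id _
  have := (h (Y.residueField y)).image _ (FBase.bcπ f₀ (Y.residueField y) ≫ f.fiberι y).continuous.continuousOn
  refine (congrArg IsIrreducible (Set.image_preimage_eq_of_subset
    (f := (FBase.bcπ f₀ (Y.residueField y) ≫ f.fiberι y).base) ?_)).mp this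
  intro x hx
  obtain ⟨w, hw⟩ : x ∈ Set.range (f.fiberι y).base := (f.range_fiberι y).ge (map_of_mem hx)
  obtain ⟨v, hv⟩ := (FBase.bcπ f₀ (Y.residueField y)).surjective w
  exact ⟨v, by rw [Scheme.Hom.comp_apply, hv, hw]⟩

variable {X' Y' : Scheme.{u}} {f' : X' ⟶ Y'} {g' : Y' ⟶ X'} {p : X' ⟶ X} {h : Y' ⟶ Y}

theorem mem_comp_baseChange_iff (hg : g ≫ f = 𝟙 Y) (sq : IsPullback p f' f h) (hg' : g' ≫ f' = 𝟙 Y')
    (hgp : g' ≫ p = h ≫ g) {y' : Y'} {x' : X'} (hx' : f'.base x' = y') :
    x' ∈ comp f' g' y' ↔ p.base x' ∈ comp f g (h.base y') := by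
  have key := congrArg (fun s : Set X' => x' ∈ s)
    (Groth.Agent.S1324.result f g hg f' p h sq g' hg' hgp)
  have e : f.base (p.base x') = h.base y' := by
    rw [← Scheme.Hom.comp_apply, sq.w, Scheme.Hom.comp_apply, hx']
  rw [mem_comp_iff (f := f') (g := g'), mem_comp_iff (f := f) (g := g)]
  simp only [hx', e, and_true]
  exact Iff.of_eq key

theorem isIrreducible_baseChange (hg : g ≫ f = 𝟙 Y) (sq : IsPullback p f' f h) (hg' : g' ≫ f' = 𝟙 Y')
    (hgp : g' ≫ p = h ≫ g) {y' : Y'} (hgi : GeomIrred f g (h.base y')) :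
    IsIrreducible (comp f' g' y') := by
  letI : Algebra (IsLocalRing.ResidueField (Y.presheaf.stalk (h.base y'))) (Y'.residueField y') :=
    (h.residueFieldMap y').hom.toAlgebra
  have hP := isPullback_fiberToSpecResidueField_of_isPullback sq y'
  let e : f'.fiber y' ≅ FBase.bc (f.fiberToSpecResidueField (h.base y')) (Y'.residueField y') := hP.isoPullback
  have he : e.inv ≫ f'.fiberι y' ≫ p =
      FBase.bcπ (f.fiberToSpecResidueField (h.base y')) (Y'.residueField y') ≫ f.fiberι (h.base y') := by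
    let π : f'.fiber y' ⟶ f.fiber (h.base y') :=
      pullback.map _ _ _ _ p (Spec.map (h.residueFieldMap y')) h sq.w.symm (by simp)
    have hπ : π ≫ f.fiberι (h.base y') = f'.fiberι y' ≫ p := pullback.lift_fst _ _ _
    have h1 : e.inv ≫ π = FBase.bcπ (f.fiberToSpecResidueField (h.base y')) (Y'.residueField y') :=
      hP.isoPullback_inv_fst
    exact (congrArg (fun q => e.inv ≫ q) hπ.symm).trans ((Category.assoc _ _ _).symm.trans
      (congrArg (fun q => q ≫ f.fiberι (h.base y')) h1))
  have himg := (hgi (Y'.residueField y')).image _ (e.inv ≫ f'.fiberι y').continuous.continuousOn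
  convert himg using 1
  ext x'
  constructor
  · intro hx
    have hxy := map_of_mem hx
    obtain ⟨a, ha⟩ : x' ∈ Set.range (f'.fiberι y').base := (f'.range_fiberι y').ge hxy
    refine ⟨e.hom.base a, ?_, ?_⟩
    · rw [Set.mem_preimage, ← he, Scheme.Hom.comp_apply, Scheme.Hom.comp_apply]
      rw [show e.inv.base (e.hom.base a) = a from congr($(e.hom_inv_id) a), ha]
      exact (mem_comp_baseChange_iff hg sq hg' hgp hxy).mp hx
    · rw [Scheme.Hom.comp_apply, show e.inv.base (e.hom.base a) = a from congr($(e.hom_inv_id) a), ha]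
  · rintro ⟨v, hv, rfl⟩
    have hxy : f'.base ((e.inv ≫ f'.fiberι y').base v) = y' :=
      (f'.range_fiberι y').le ⟨e.inv.base v, rfl⟩
    refine (mem_comp_baseChange_iff hg sq hg' hgp hxy).mpr ?_
    rw [← Scheme.Hom.comp_apply, Category.assoc, he]
    exact hv

/-- EGA IV 15.6.3: universal openness along components of constant dimension. -/
theorem isUnivOpenAt_of_dim_const (f : X ⟶ Y) [LocallyOfFinitePresentation f] (g : Y ⟶ X) (hg : g ≫ f = 𝟙 Y)
    (hgi : ∀ y, GeomIrred f g y) {y : Y} (V : Set Y) (hV : V ∈ nhds y)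
    (hc : ∀ z ∈ V, topologicalKrullDim ↥(comp f g z) = topologicalKrullDim ↥(comp f g y))
    {x : X} (hx : x ∈ comp f g y) : EGA43.IsUnivOpenAt f x := by
  rw [isUnivOpenAt_iff_genLift]
  intro Y' h x' hx' y₁ hy₁
  let f' := pullback.snd f h
  let p := pullback.fst f h
  have sq : IsPullback p f' f h := IsPullback.of_hasPullback f h
  haveI : LocallyOfFiniteType f' := MorphismProperty.of_isPullback sq inferInstance
  let g' : Y' ⟶ pullback f h := pullback.lift (h ≫ g) (𝟙 _) (by rw [Category.assoc, hg, Category.comp_id, Category.id_comp])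
  have hg' : g' ≫ f' = 𝟙 Y' := pullback.lift_snd _ _ _
  have hgp : g' ≫ p = h ≫ g := pullback.lift_fst _ _ _
  let y' := f'.base x'
  have hhy : h.base y' = y := by
    rw [← Scheme.Hom.comp_apply, ← sq.w, Scheme.Hom.comp_apply]
    exact (congrArg f.base hx').trans (map_of_mem hx)
  have hirr : ∀ t, IsIrreducible (comp f' g' t) := fun t =>
    isIrreducible_baseChange hg sq hg' hgp (hgi (h.base t))
  have hdim : ∀ t, topologicalKrullDim ↥(comp f' g' t) = topologicalKrullDim ↥(comp f g (h.base t)) := fun t => by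
    rw [← fibreDimAt_section hg' (hirr t), ← fibreDimAt_section hg (hgi _).isIrreducible,
      FibDimLib.fibreDimAt_baseChange sq, ← Scheme.Hom.comp_apply, hgp, Scheme.Hom.comp_apply]
  have hy1V : h.base y₁ ∈ V := by
    obtain ⟨W, hWV, hW, hyW⟩ := mem_nhds_iff.mp hV
    exact hWV ((hy₁.map h.continuous).mem_open hW (by rw [show h.base (f'.base x') = y from hhy]; exact hyW))
  have hxC : x' ∈ comp f' g' y' := by
    refine (mem_comp_baseChange_iff hg sq hg' hgp rfl).mpr ?_
    rw [hhy]
    exact hx'.symm ▸ hx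
  obtain ⟨ξ, hξC, hC⟩ := exists_generic_comp hg' (hirr y₁)
  refine ⟨ξ, ?_, map_of_mem hξC⟩
  have hsub := subset_closure_of_dim_le hg' (y' := y₁) hy₁ (hirr y') (hirr y₁)
    (le_of_eq (by rw [hdim, hdim, hhy, hc _ hy1V]))
  rw [specializes_iff_mem_closure]
  refine closure_minimal ?_ isClosed_closure (hsub hxC)
  rw [hC]
  exact Set.inter_subset_left

/-- EGA IV 15.6.7: flatness along components of constant dimension. -/
theorem flat_of_dim_const [IsLocallyNoetherian Y] [IsReduced Y] (f : X ⟶ Y) [LocallyOfFiniteType f]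
    (g : Y ⟶ X) (hg : g ≫ f = 𝟙 Y) (hgi : ∀ y, GeomIrred f g y) (x₀ : X)
    (hx₀ : x₀ ∈ comp f g (f.base x₀)) (V : Set Y) (hV : V ∈ nhds (f.base x₀))
    (hc : ∀ z ∈ V, topologicalKrullDim ↥(comp f g z) = topologicalKrullDim ↥(comp f g (f.base x₀)))
    (hred : FBase.IsGeomReducedAt (f.fiberToSpecResidueField (f.base x₀)) (f.asFiber x₀)) :
    (f.stalkMap x₀).hom.Flat := by
  haveI := locallyOfFinitePresentation_of_isLocallyNoetherian f
  refine DvrFlatLib.flat_stalkMap_of_univOpen f x₀ (fun z hz _ => ?_) hred inferInstance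
  refine isUnivOpenAt_of_dim_const f g hg hgi V hV hc (mem_of_generizes hx₀ ?_ ?_)
  · exact (f.range_fiberι _).le ⟨z, rfl⟩
  · have := (specializes_iff_mem_closure.mpr hz).map (f.fiberι (f.base x₀)).continuous
    rwa [f.fiberι_asFiber] at this

end SecCompLib
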